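import Groth.Agent.FlatLocus.Scheme
import Groth.Agent.HomLocus.Instances
import Groth.Agent.OnePointFibre.Basic
import Groth.Agent.S0386
import Mathlib.AlgebraicGeometry.ZariskisMainTheorem
import Mathlib.RingTheory.Etale.QuasiFinite

/-!
# The isomorphism locus of a morphism between proper schemes with flat source
-/

set_option autoImplicit false

universe u

open CategoryTheory Limits AlgebraicGeometry TopologicalSpace

namespace Groth.Agent.IsoLocus

variable {X Y S : Scheme.{u}} (f : X ⟶ Y) (h : Y ⟶ S)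

lemma residueFieldMap_surjective {A B : Scheme.{u}} (p : A ⟶ B) [IsPreimmersion p] (a : A) :
    Function.Surjective (p.residueFieldMap a) := by
  intro z
  obtain ⟨z, rfl⟩ := IsLocalRing.residue_surjective z
  obtain ⟨b, rfl⟩ := p.stalkMap_surjective a z
  exact ⟨B.residue _ b, congr($(Scheme.residue_residueFieldMap p a) b)⟩

lemma surjective_residueFieldMap_comp {A B C : Scheme.{u}} (p : A ⟶ B) (q : B ⟶ C) (a : A)
    (hp : Function.Surjective (p.residueFieldMap a))
    (hq : Function.Surjective (q.residueFieldMap (p a))) :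
    Function.Surjective ((p ≫ q).residueFieldMap a) := by
  intro z
  obtain ⟨u, rfl⟩ := hp z
  obtain ⟨v, rfl⟩ := hq u
  exact ⟨v, congr($(Scheme.residueFieldMap_comp p q a) v)⟩

lemma surjective_residueFieldMap_right {A B C : Scheme.{u}} (p : A ⟶ B) (q : B ⟶ C) (a : A)
    (h : Function.Surjective ((p ≫ q).residueFieldMap a)) :
    Function.Surjective (q.residueFieldMap (p a)) := by
  intro u
  obtain ⟨v, hv⟩ := h (p.residueFieldMap a u)
  exact ⟨v, (p.residueFieldMap a).hom.injective ((congr($(Scheme.residueFieldMap_comp p q a) v)).symm.trans hv)⟩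

lemma surjective_residueFieldMap_left {A B C : Scheme.{u}} (p : A ⟶ B) (q : B ⟶ C) (a : A)
    (h : Function.Surjective ((p ≫ q).residueFieldMap a)) :
    Function.Surjective (p.residueFieldMap a) := by
  intro z
  obtain ⟨v, hv⟩ := h z
  exact ⟨q.residueFieldMap (p a) v, (congr($(Scheme.residueFieldMap_comp p q a) v)).symm.trans hv⟩

lemma iso_hom_eq_fiberMap {s : S} (e : (f ≫ h).fiber s ≅ h.fiber s)
    (he : e.hom ≫ h.fiberι s = (f ≫ h).fiberι s ≫ f) : IsIso (MoreMor.fiberMap f h s) := by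
  have : e.hom = MoreMor.fiberMap f h s := by
    rw [← cancel_mono (h.fiberι s), he]
    exact (FlatLocus.isPullback_fiberMap f h s).w
  rw [← this]; infer_instance

variable [IsProper (f ≫ h)] [LocallyOfFinitePresentation (f ≫ h)] [Flat (f ≫ h)] [IsProper h]
  [LocallyOfFinitePresentation h]

/-- If the fibre map over `s` is an isomorphism, so is `f` near every point over `s`. -/
theorem exists_isIso_of_fibre {s : S} (hs : IsIso (MoreMor.fiberMap f h s)) (y : Y) (hy : h y = s) :
    ∃ V : Y.Opens, y ∈ V ∧ IsIso (f ∣_ V) := by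
  haveI : IsProper f := IsProper.of_comp f h
  haveI : LocallyOfFinitePresentation f := FlatLocus.locallyOfFinitePresentation_of_comp f h
  have sq := FlatLocus.isPullback_fiberMap f h s
  let G : Set X := {x | (f.stalkMap x).hom.Flat ∧ (f.stalkMap x).hom.FormallyUnramified}
  have hG : IsOpen G :=
    (Groth.Agent.S0386.result f).inter (Unram.isOpen_unramified_stalkMap f)
  have hGs : ∀ x, h (f x) = s → x ∈ G := by
    intro x hx
    subst hx
    refine ⟨(FlatLocus.flat_of_flat_fiberMap f h x (Flat.stalkMap (f ≫ h) x)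
      (Flat.stalkMap _ _)).2, ?_⟩
    have := (HomLocus.unramPt.isPullback_iff sq ((f ≫ h).asFiber x)).mp
      (FormallyUnramified.stalkMap (MoreMor.fiberMap f h (h (f x))) _)
    have hx' : (f ≫ h).fiberι (h (f x)) ((f ≫ h).asFiber x) = x := (f ≫ h).fiberι_asFiber x
    rw [hx'] at this
    exact this
  let V : Y.Opens := ⟨(f '' Gᶜ)ᶜ, (f.isClosedMap _ hG.isClosed_compl).isOpen_compl⟩
  have hyV : y ∈ V := by
    rintro ⟨x, hx, rfl⟩
    exact hx (hGs x hy)
  have hres : ∀ w : ↥(f ⁻¹ᵁ V), ((f ∣_ V).stalkMap w).hom.Flat ∧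
      ((f ∣_ V).stalkMap w).hom.FormallyUnramified := by
    intro w
    have hw : w.1 ∈ G := by
      by_contra hn
      exact w.2 ⟨w.1, hn, rfl⟩
    exact ⟨(RingHom.Flat.respectsIso.arrow_mk_iso_iff (morphismRestrictStalkMap f V w)).mpr hw.1,
      (RingHom.FormallyUnramified.respectsIso.arrow_mk_iso_iff (morphismRestrictStalkMap f V w)).mpr hw.2⟩
  haveI : Flat (f ∣_ V) := HasRingHomProperty.of_stalkMap RingHom.Flat.ofLocalizationPrime fun w => (hres w).1
  haveI : FormallyUnramified (f ∣_ V) := (Unram.formallyUnramified_iff_stalkMap _).mpr fun w => (hres w).2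
  haveI : LocallyOfFinitePresentation (f ∣_ V) := IsZariskiLocalAtTarget.restrict ‹_› V
  haveI : Etale (f ∣_ V) := Etale.of_formallyUnramified_of_flat _
  haveI : IsProper (f ∣_ V) := IsZariskiLocalAtTarget.restrict ‹_› V
  haveI : LocallyQuasiFinite (f ∣_ V) := HasRingHomProperty.iff_appLE.2 fun U W e => by
    have := HasRingHomProperty.appLE (P := @Etale) (f ∣_ V) ‹_› U W e
    algebraize [((f ∣_ V).appLE U.1 W.1 e).hom]
    change Algebra.QuasiFinite _ _
    infer_instance
  haveI : IsFinite (f ∣_ V) := IsFinite.of_isProper_of_locallyQuasiFinite _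
  obtain ⟨ys, hys⟩ : y ∈ Set.range (h.fiberι s) := by rw [h.range_fiberι]; exact hy
  let xs := inv (MoreMor.fiberMap f h s) ys
  let x := (f ≫ h).fiberι s xs
  have hxs : MoreMor.fiberMap f h s xs = ys := by
    rw [← Scheme.Hom.comp_apply, IsIso.inv_hom_id]; rfl
  have hfx : f x = y := by
    rw [← hys, ← hxs]
    exact congrArg (fun (m : (f ≫ h).fiber s ⟶ Y) => m xs) sq.w
  have huniq : ∀ x', f x' = y → x' = x := by
    intro x' hx'
    obtain ⟨p, hp1, hp2⟩ := Scheme.exists_preimage_of_isPullback sq x' ys (hx'.trans hys.symm)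
    rw [← hp1]
    have : p = xs := by
      have h1 : inv (MoreMor.fiberMap f h s) (MoreMor.fiberMap f h s p) = p := by
        rw [← Scheme.Hom.comp_apply, IsIso.hom_inv_id]; rfl
      rw [hp2] at h1
      exact h1.symm
    rw [this]
  have hκ : Function.Surjective (f.residueFieldMap x) := by
    have h1 : Function.Surjective (((f ≫ h).fiberι s ≫ f).residueFieldMap xs) := by
      have key : ∀ (a b : (f ≫ h).fiber s ⟶ Y), a = b → Function.Surjective (b.residueFieldMap xs) →
          Function.Surjective (a.residueFieldMap xs) := by rintro _ _ rfl h'; exact h'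
      refine key _ _ sq.w ?_
      exact surjective_residueFieldMap_comp _ _ _ (residueFieldMap_surjective (MoreMor.fiberMap f h s) _)
        (residueFieldMap_surjective (h.fiberι s) _)
    exact surjective_residueFieldMap_right _ _ _ h1
  let w : ↥(f ⁻¹ᵁ V) := ⟨x, show f x ∈ V from hfx ▸ hyV⟩
  have hw : (f ∣_ V) w = ⟨y, hyV⟩ := Subtype.ext ((morphismRestrict_base_coe f V w).trans hfx)
  have hsingle : (f ∣_ V).base ⁻¹' {(f ∣_ V) w} = {w} := by
    ext w'
    refine ⟨fun h' => Subtype.ext (huniq _ ?_), fun h' => by rw [Set.mem_singleton_iff.mp h']; rfl⟩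
    have h2 : (f ∣_ V) w' = ⟨y, hyV⟩ := (Set.mem_singleton_iff.mp h').trans hw
    rw [← morphismRestrict_base_coe f V w', h2]
  have hκ' : Function.Surjective ((f ∣_ V).residueFieldMap w) := by
    have h1 : Function.Surjective (((f ∣_ V) ≫ V.ι).residueFieldMap w) := by
      have key : ∀ (a b : (f ⁻¹ᵁ V).toScheme ⟶ Y), a = b → Function.Surjective (b.residueFieldMap w) →
          Function.Surjective (a.residueFieldMap w) := by rintro _ _ rfl h'; exact h'
      refine key _ _ (morphismRestrict_ι f V) ?_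
      exact surjective_residueFieldMap_comp _ _ _ (residueFieldMap_surjective (f ⁻¹ᵁ V).ι w) hκ
    exact surjective_residueFieldMap_left _ _ _ h1
  obtain ⟨V', hV', hiso⟩ := OnePointFibre.exists_isIso (f ∣_ V) w hsingle hκ'
  refine ⟨V.ι ''ᵁ V', ⟨⟨y, hyV⟩, hw ▸ hV', rfl⟩, ?_⟩
  exact ((MorphismProperty.isomorphisms _).arrow_mk_iso_iff (morphismRestrictRestrict f V V')).mp hiso

/-- The locus of the base over which `f` is fibrewise an isomorphism is open, and `f` is an
isomorphism over it. -/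
theorem exists_open_iff : ∃ U : S.Opens,
    (∀ s : S, s ∈ U ↔ IsIso (MoreMor.fiberMap f h s)) ∧ IsIso (f ∣_ (h ⁻¹ᵁ U)) := by
  let W : Y.Opens := ⨆ V : {V : Y.Opens // IsIso (f ∣_ V)}, V.1
  let U : S.Opens := ⟨(h '' (W : Set Y)ᶜ)ᶜ, (h.isClosedMap _ W.2.isClosed_compl).isOpen_compl⟩
  have hres : IsIso (f ∣_ (h ⁻¹ᵁ U)) := by
    have hW : IsIso (f ∣_ W) := by
      refine IsZariskiLocalAtTarget.of_iSup_eq_top (P := MorphismProperty.isomorphisms Scheme.{u})
        (fun V : {V : Y.Opens // IsIso (f ∣_ V)} => W.ι ⁻¹ᵁ V.1) ?_ fun V => ?_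
      · rw [← Scheme.Hom.preimage_iSup]
        exact eq_top_iff.mpr fun w _ => w.2
      · refine ((MorphismProperty.isomorphisms _).arrow_mk_iso_iff
          (morphismRestrictRestrict f W _ ≪≫ morphismRestrictEq f ?_)).mpr V.2
        rw [Scheme.Hom.image_preimage_eq_opensRange_inf, Scheme.Opens.opensRange_ι]
        exact inf_eq_right.mpr (le_iSup (fun V : {V : Y.Opens // IsIso (f ∣_ V)} => V.1) V)
    have hle : h ⁻¹ᵁ U ≤ W := fun z hz => by
      by_contra hn
      exact hz ⟨z, hn, rfl⟩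
    refine ((MorphismProperty.isomorphisms _).arrow_mk_iso_iff
      (morphismRestrictRestrict f W (W.ι ⁻¹ᵁ (h ⁻¹ᵁ U)) ≪≫ morphismRestrictEq f ?_)).mp ?_
    · rw [Scheme.Hom.image_preimage_eq_opensRange_inf, Scheme.Opens.opensRange_ι]
      exact inf_eq_right.mpr hle
    · exact IsZariskiLocalAtTarget.restrict (P := MorphismProperty.isomorphisms Scheme.{u}) hW _
  refine ⟨U, fun s => ⟨fun hsU => ?_, fun hs => ?_⟩, hres⟩
  · let hr : h.fiber s ⟶ (h ⁻¹ᵁ U).toScheme := IsOpenImmersion.lift (h ⁻¹ᵁ U).ι (h.fiberι s) (by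
      rw [Scheme.Opens.range_ι]
      rintro _ ⟨z, rfl⟩
      have hz : h (h.fiberι s z) = s := (h.range_fiberι s).le ⟨z, rfl⟩
      change h (h.fiberι s z) ∈ U
      rwa [hz])
    have sq := FlatLocus.isPullback_fiberMap f h s
    rw [← IsOpenImmersion.lift_fac (h ⁻¹ᵁ U).ι (h.fiberι s) (by
      rw [Scheme.Opens.range_ι]
      rintro _ ⟨z, rfl⟩
      have hz : h (h.fiberι s z) = s := (h.range_fiberι s).le ⟨z, rfl⟩
      change h (h.fiberι s z) ∈ U
      rwa [hz])] at sq
    have sq2 := isPullback_morphismRestrict f (h ⁻¹ᵁ U)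
    have hw1 : (f ≫ h).fiberι s ≫ f = (MoreMor.fiberMap f h s ≫ hr) ≫ (h ⁻¹ᵁ U).ι := by
      rw [Category.assoc]; exact sq.w
    exact MorphismProperty.of_isPullback (P := MorphismProperty.isomorphisms Scheme.{u})
      (IsPullback.of_right (h₁₁ := sq2.flip.lift _ _ hw1) (by rw [sq2.flip.lift_fst]; exact sq)
        (sq2.flip.lift_snd _ _ _) sq2.flip) hres
  · rintro ⟨y, hy, hys⟩
    obtain ⟨V, hyV, hV⟩ := exists_isIso_of_fibre f h hs y hys
    exact hy (Opens.mem_iSup.mpr ⟨⟨V, hV⟩, hyV⟩)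

end Groth.Agent.IsoLocus
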